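import Mathlib

/-!
The derived length of a finite linear `p`-group.
-/

set_option autoImplicit false
set_option linter.unusedSectionVars false
set_option linter.style.haveILetI false

namespace Cfsg.Agent.PLinearDL

open Module
open scoped commutatorElement

universe u v w

variable {F : Type w} [Field F]

section Basic

variable {P : Type u} [Group P] {V : Type v} [AddCommGroup V] [Module F V]

/-- An invariant subspace. -/
def Inv (ρ : P →* End F V) (W : Submodule F V) : Prop := ∀ g : P, ∀ v ∈ W, ρ g v ∈ W

/-- Restriction to an invariant subspace. -/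
noncomputable def sub (ρ : P →* End F V) (W : Submodule F V) (h : Inv ρ W) : P →* End F W where
  toFun g := (ρ g).restrict (h g)
  map_one' := by ext v; simp
  map_mul' g g' := by ext v; simp

/-- The action on the quotient by an invariant subspace. -/
noncomputable def quot (ρ : P →* End F V) (W : Submodule F V) (h : Inv ρ W) :
    P →* End F (V ⧸ W) where
  toFun g := W.mapQ W (ρ g) (fun v hv => h g v hv)
  map_one' := Submodule.linearMap_qext _ (LinearMap.ext fun v => by simp)
  map_mul' g g' := Submodule.linearMap_qext _ (LinearMap.ext fun v => by simp)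

theorem apply_apply (ρ : P →* End F V) (g h : P) (v : V) : ρ g (ρ h v) = ρ (g * h) v := by
  rw [map_mul]; rfl

theorem inv_apply_self (ρ : P →* End F V) (g : P) (v : V) : ρ g⁻¹ (ρ g v) = v := by
  rw [apply_apply, inv_mul_cancel, map_one]; rfl

theorem apply_inv_self (ρ : P →* End F V) (g : P) (v : V) : ρ g (ρ g⁻¹ v) = v := by
  rw [apply_apply, mul_inv_cancel, map_one]; rfl

theorem apply_eq_self_of_sub (ρ : P →* End F V) (W : Submodule F V) (h : Inv ρ W) {g : P}
    (hg : sub ρ W h g = 1) {v : V} (hv : v ∈ W) : ρ g v = v := by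
  simpa [sub] using congrArg Subtype.val (LinearMap.congr_fun hg ⟨v, hv⟩)

theorem sub_mem_of_quot (ρ : P →* End F V) (W : Submodule F V) (h : Inv ρ W) {g : P}
    (hg : quot ρ W h g = 1) (v : V) : ρ g v - v ∈ W := by
  rw [← Submodule.Quotient.eq]
  simpa [quot] using LinearMap.congr_fun hg (Submodule.Quotient.mk v)

theorem finrank_quot [FiniteDimensional F V] (W : Submodule F V) :
    finrank F (V ⧸ W) + finrank F W = finrank F V :=
  Submodule.finrank_quotient_add_finrank W

/-- An element of prime power order acting trivially on a subspace and on its quotient. -/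
theorem eq_one_of_sub_quot {p : ℕ} (hp : (p : F) ≠ 0) (hP : IsPGroup p P) (ρ : P →* End F V)
    (W : Submodule F V) (h : Inv ρ W) {g : P} (hs : sub ρ W h g = 1) (hq : quot ρ W h g = 1) :
    ρ g = 1 := by
  refine LinearMap.ext fun v => ?_
  have hw := apply_eq_self_of_sub ρ W h hs (sub_mem_of_quot ρ W h hq v)
  have hk : ∀ k : ℕ, ρ (g ^ k) v = v + k • (ρ g v - v) := by
    intro k
    induction k with
    | zero => simp
    | succ k ih =>
      rw [pow_succ', map_mul, Module.End.mul_apply, ih, map_add, map_nsmul, hw, succ_nsmul]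
      abel
  obtain ⟨j, hj⟩ := hP g
  have h1 := hk (p ^ j)
  rw [hj, map_one, Module.End.one_apply, left_eq_add, ← Nat.cast_smul_eq_nsmul F, smul_eq_zero,
    sub_eq_zero, Nat.cast_pow] at h1
  exact h1.resolve_left (pow_ne_zero _ hp)

theorem derivedSeries_succ_le {H : Subgroup P} (hH : commutator P ≤ H) :
    ∀ j : ℕ, derivedSeries P (j + 1) ≤ (derivedSeries H j).map H.subtype := by
  intro j
  induction j with
  | zero => rw [derivedSeries_zero, ← MonoidHom.range_eq_map, Subgroup.range_subtype,
      derivedSeries_one]; exact hH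
  | succ j ih =>
    rw [derivedSeries_succ P (j + 1), derivedSeries_succ H j, Subgroup.map_commutator]
    exact Subgroup.commutator_mono ih ih

theorem eq_one_of_mem_derivedSeries_one (ρ : P →* End F V) (hc : ∀ g h, Commute (ρ g) (ρ h))
    {g : P} (hg : g ∈ derivedSeries P 1) : ρ g = 1 := by
  have hle : commutator P ≤ ρ.ker := by
    rw [commutator_def, Subgroup.commutator_le]
    intro a _ b _
    rw [MonoidHom.mem_ker, commutatorElement_def, map_mul, map_mul, map_mul]
    have e : ρ a * ρ b = ρ b * ρ a := hc a b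
    rw [e, mul_assoc (ρ b), ← map_mul, mul_inv_cancel, map_one, mul_one, ← map_mul, mul_inv_cancel,
      map_one]
  rw [derivedSeries_one] at hg
  exact hle hg

theorem eq_one_of_finrank_le_one [FiniteDimensional F V] (ρ : P →* End F V)
    (h : finrank F V ≤ 1) {g : P} (hg : g ∈ derivedSeries P 1) : ρ g = 1 := by
  refine eq_one_of_mem_derivedSeries_one ρ (fun a b => ?_) hg
  obtain ⟨v, hv⟩ := finrank_le_one_iff.mp h
  refine LinearMap.ext fun x => ?_
  obtain ⟨s, rfl⟩ := hv x
  obtain ⟨r, hr⟩ := hv (ρ a v)
  obtain ⟨t, ht⟩ := hv (ρ b v)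
  show ρ a (ρ b (s • v)) = ρ b (ρ a (s • v))
  simp only [map_smul, ← ht, ← hr, smul_comm t r]

/-- Irreducibility gives Schur's lemma: commuting maps have full eigenspaces. -/
theorem eigenspace_inv (ρ : P →* End F V) {T : End F V} (hT : ∀ g, Commute T (ρ g)) (μ : F) :
    Inv ρ (T.eigenspace μ) := fun g v hv => by
  rw [End.mem_eigenspace_iff] at hv ⊢
  rw [← Module.End.mul_apply, (hT g).eq, Module.End.mul_apply, hv, map_smul]

end Basic

section AlgClosed

variable [IsAlgClosed F]

theorem exists_scalar {P : Type u} [Group P] {V : Type v} [AddCommGroup V] [Module F V]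
    [FiniteDimensional F V] [Nontrivial V] (ρ : P →* End F V)
    (hirr : ∀ W, Inv ρ W → W = ⊥ ∨ W = ⊤) {T : End F V} (hT : ∀ g, Commute T (ρ g)) :
    ∃ μ : F, ∀ v, T v = μ • v := by
  obtain ⟨μ, hμ⟩ := End.exists_eigenvalue T
  refine ⟨μ, fun v => End.mem_eigenspace_iff.mp ?_⟩
  rw [((hirr _ (eigenspace_inv ρ hT μ)).resolve_left hμ)]
  exact Submodule.mem_top

/-- An irreducible `p`-group in characteristic `p` is trivial. -/
theorem irr_trivial {P : Type u} [Group P] [Finite P] {p : ℕ} [Fact p.Prime] (hP : IsPGroup p P)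
    (hp : (p : F) = 0) {V : Type v} [AddCommGroup V] [Module F V] [FiniteDimensional F V]
    [Nontrivial V] (ρ : P →* End F V) (hirr : ∀ W, Inv ρ W → W = ⊥ ∨ W = ⊤) (g : P) : ρ g = 1 := by
  by_contra hg
  set K := ρ.ker
  haveI : Nontrivial (P ⧸ K) := QuotientGroup.nontrivial_iff.mpr fun e => hg
    (MonoidHom.mem_ker.mp (show g ∈ K by rw [e]; exact Subgroup.mem_top g))
  haveI := (hP.to_quotient K).center_nontrivial
  obtain ⟨⟨c, hc⟩, hc1⟩ := exists_ne (1 : Subgroup.center (P ⧸ K))
  obtain ⟨z, rfl⟩ := QuotientGroup.mk_surjective c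
  have hzK : z ∉ K := fun hz => hc1 (Subtype.ext ((QuotientGroup.eq_one_iff z).mpr hz))
  have hcomm : ∀ h, Commute (ρ z) (ρ h) := fun h => by
    have e := Subgroup.mem_center_iff.mp hc (QuotientGroup.mk h)
    rw [← QuotientGroup.mk_mul, ← QuotientGroup.mk_mul, QuotientGroup.eq, MonoidHom.mem_ker] at e
    have e' : ρ (z * h) = ρ (h * z) := by
      rw [show z * h = h * z * ((h * z)⁻¹ * (z * h)) by group, map_mul, e, mul_one]
    rw [map_mul, map_mul] at e'
    exact e'
  obtain ⟨μ, hμ⟩ := exists_scalar ρ hirr hcomm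
  obtain ⟨j, hj⟩ := hP z
  have hpow : ∀ k : ℕ, ∀ v, ρ (z ^ k) v = μ ^ k • v := by
    intro k
    induction k with
    | zero => simp
    | succ k ih =>
      intro v
      rw [pow_succ', map_mul, Module.End.mul_apply, ih, map_smul, hμ, smul_smul, ← pow_succ]
  obtain ⟨v, hv⟩ := exists_ne (0 : V)
  have h1 := hpow (p ^ j) v
  rw [hj, map_one, Module.End.one_apply] at h1
  have hμj : μ ^ p ^ j = 1 := by
    by_contra hne
    exact hv ((smul_eq_zero.mp (show (μ ^ p ^ j - 1) • v = 0 by
      rw [sub_smul, one_smul, ← h1, sub_self])).resolve_left (sub_ne_zero.mpr hne))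
  haveI : CharP F p := (CharP.charP_iff_prime_eq_zero Fact.out).mpr hp
  have hμ1 : μ = 1 := by
    have e : (μ - 1) ^ p ^ j = 0 := by rw [sub_pow_char_pow, one_pow, hμj, sub_self]
    exact sub_eq_zero.mp (eq_zero_of_pow_eq_zero e)
  refine hzK (MonoidHom.mem_ker.mpr (LinearMap.ext fun x => ?_))
  rw [hμ, hμ1, one_smul, Module.End.one_apply]

theorem exists_fixed {P : Type u} [Group P] [Finite P] {p : ℕ} [Fact p.Prime] (hP : IsPGroup p P)
    (hp : (p : F) = 0) : ∀ (n : ℕ) {V : Type v} [AddCommGroup V] [Module F V]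
      [FiniteDimensional F V], finrank F V = n → ∀ ρ : P →* End F V, Nontrivial V →
      ∃ v : V, v ≠ 0 ∧ ∀ g, ρ g v = v := by
  intro n
  induction n using Nat.strong_induction_on with
  | _ n ih =>
    intro V _ _ _ hn ρ _
    by_cases hirr : ∀ W, Inv ρ W → W = ⊥ ∨ W = ⊤
    · obtain ⟨v, hv⟩ := exists_ne (0 : V)
      exact ⟨v, hv, fun g => by rw [irr_trivial hP hp ρ hirr g]; rfl⟩
    push Not at hirr
    obtain ⟨W, hW, hW0, hW1⟩ := hirr
    obtain ⟨v, hv, hfix⟩ := ih _ (hn ▸ Submodule.finrank_lt hW1) rfl (sub ρ W hW)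
      ((Submodule.nontrivial_iff_ne_bot).mpr hW0)
    exact ⟨v, fun e => hv (Subtype.ext e), fun g => congrArg Subtype.val (hfix g)⟩

/-- In characteristic `p` there are invariant subspaces of every dimension. -/
theorem exists_inv_of_le {P : Type u} [Group P] [Finite P] {p : ℕ} [Fact p.Prime]
    (hP : IsPGroup p P) (hp : (p : F) = 0) {V : Type v} [AddCommGroup V] [Module F V]
    [FiniteDimensional F V] (ρ : P →* End F V) :
    ∀ a : ℕ, a ≤ finrank F V → ∃ W, Inv ρ W ∧ finrank F W = a := by
  intro a
  induction a with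
  | zero => exact fun _ => ⟨⊥, fun g v hv => by simp_all, finrank_bot F V⟩
  | succ a ih =>
    intro ha
    obtain ⟨W, hW, hWa⟩ := ih (by omega)
    have hq : 0 < finrank F (V ⧸ W) := by have := finrank_quot W; omega
    obtain ⟨c, hc, hfix⟩ := exists_fixed hP hp _ rfl (quot ρ W hW)
      (Module.nontrivial_of_finrank_pos hq)
    obtain ⟨v, rfl⟩ := Submodule.Quotient.mk_surjective W c
    have hv0 : v ≠ 0 := fun e => hc (by simp [e])
    refine ⟨W ⊔ F ∙ v, fun g x hx => ?_, ?_⟩
    · obtain ⟨w, hw, y, hy, rfl⟩ := Submodule.mem_sup.mp hx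
      obtain ⟨r, rfl⟩ := Submodule.mem_span_singleton.mp hy
      have hd : ρ g v - v ∈ W := by
        rw [← Submodule.Quotient.eq]
        simpa [quot] using hfix g
      rw [map_add, map_smul]
      refine Submodule.mem_sup.mpr ⟨ρ g w + r • (ρ g v - v),
        add_mem (hW g w hw) (W.smul_mem r hd), r • v, Submodule.smul_mem _ r
          (Submodule.mem_span_singleton_self v), ?_⟩
      rw [smul_sub]; abel
    · have hinf : W ⊓ F ∙ v = ⊥ := by
        rw [eq_bot_iff]
        rintro x ⟨hx1, hx2⟩
        obtain ⟨r, rfl⟩ := Submodule.mem_span_singleton.mp hx2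
        by_cases hr : r = 0
        · simp [hr]
        · refine absurd ((Submodule.Quotient.mk_eq_zero W).mpr ?_) hc
          simpa [smul_smul, inv_mul_cancel₀ hr] using W.smul_mem r⁻¹ hx1
      have h1 := Submodule.finrank_sup_add_finrank_inf_eq W (F ∙ v)
      rw [hinf, finrank_bot, add_zero, hWa, finrank_span_singleton hv0] at h1
      exact h1

theorem char_p_bound {P : Type u} [Group P] [Finite P] {p : ℕ} [Fact p.Prime] (hP : IsPGroup p P)
    (hp : (p : F) = 0) : ∀ (m : ℕ) {V : Type v} [AddCommGroup V] [Module F V]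
      [FiniteDimensional F V], finrank F V ≤ 2 ^ m → ∀ ρ : P →* End F V,
      ∀ g ∈ derivedSeries P m, ρ g = 1 := by
  intro m
  induction m with
  | zero =>
    intro V _ _ _ hn ρ g _
    rcases subsingleton_or_nontrivial V with hV | hV
    · exact Subsingleton.elim _ _
    obtain ⟨v, hv, hfix⟩ := exists_fixed hP hp _ rfl ρ hV
    refine LinearMap.ext fun x => ?_
    obtain ⟨s, rfl⟩ := (finrank_eq_one_iff_of_nonzero' v hv).mp
      (le_antisymm (by simpa using hn) Module.finrank_pos) x
    rw [map_smul, hfix, Module.End.one_apply]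
  | succ m ih =>
    intro V _ _ _ hn ρ g hg
    obtain ⟨W, hW, hWa⟩ := exists_inv_of_le hP hp ρ (min (finrank F V) (2 ^ m)) (min_le_left _ _)
    have hq : finrank F (V ⧸ W) ≤ 2 ^ m := by
      have := finrank_quot W
      rw [pow_succ] at hn
      omega
    have hs : finrank F W ≤ 2 ^ m := hWa ▸ min_le_right _ _
    have hle : derivedSeries P (m + 1) ≤ ρ.ker := by
      rw [derivedSeries_succ, Subgroup.commutator_le]
      intro a ha b hb
      rw [MonoidHom.mem_ker]
      have key : ρ (a * b) = ρ (b * a) := by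
        refine LinearMap.ext fun v => ?_
        have e : ∀ x ∈ derivedSeries P m, ∀ y ∈ derivedSeries P m,
            ρ x (ρ y v) = (ρ x v - v) + (ρ y v - v) + v := by
          intro x hx y hy
          have h1 := apply_eq_self_of_sub ρ W hW (ih hs (sub ρ W hW) x hx)
            (sub_mem_of_quot ρ W hW (ih hq (quot ρ W hW) y hy) v)
          rw [map_sub] at h1
          rw [show ρ x (ρ y v) = (ρ x (ρ y v) - ρ x v) + ρ x v by abel, h1]
          abel
        rw [← apply_apply, ← apply_apply, e a ha b hb, e b hb a ha]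
        abel
      rw [show ⁅a, b⁆ = a * b * (b * a)⁻¹ by rw [commutatorElement_def]; group, map_mul, key,
        ← map_mul, mul_inv_cancel, map_one]
    exact hle hg

theorem log_succ_le {n a : ℕ} (ha : 1 ≤ a) (h : 2 * a ≤ n) : Nat.log 2 a + 1 ≤ Nat.log 2 n := by
  refine Nat.le_log_of_pow_le one_lt_two ?_
  rw [pow_succ]
  have := Nat.pow_log_le_self 2 (show a ≠ 0 by omega)
  omega

theorem coprime_bound {p : ℕ} [Fact p.Prime] (hp : (p : F) ≠ 0) :
    ∀ (n : ℕ) {P : Type u} [Group P] [Finite P], IsPGroup p P →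
      ∀ {V : Type v} [AddCommGroup V] [Module F V] [FiniteDimensional F V], finrank F V = n →
      ∀ ρ : P →* End F V, ∀ g ∈ derivedSeries P (Nat.log 2 n + 1), ρ g = 1 := by
  intro n
  induction n using Nat.strong_induction_on with
  | _ n ih =>
    intro P _ _ hP V _ _ _ hn ρ g hg
    have anti : ∀ {a b : ℕ}, a ≤ b → derivedSeries P b ≤ derivedSeries P a := fun {a b} h =>
      derivedSeries_antitone P h
    by_cases hn1 : n ≤ 1
    · exact eq_one_of_finrank_le_one ρ (hn.trans_le hn1) (anti (Nat.le_add_left 1 _) hg)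
    haveI : Nontrivial V := Module.nontrivial_of_finrank_pos (R := F) (by omega)
    by_cases hirr : ∀ W, Inv ρ W → W = ⊥ ∨ W = ⊤
    swap
    · push Not at hirr
      obtain ⟨W, hW, hW0, hW1⟩ := hirr
      have hs : finrank F W < n := hn ▸ Submodule.finrank_lt hW1
      have hs0 : 0 < finrank F W := by
        haveI := (Submodule.nontrivial_iff_ne_bot).mpr hW0
        exact Module.finrank_pos
      have hq : finrank F (V ⧸ W) < n := by have := finrank_quot W; omega
      refine eq_one_of_sub_quot hp hP ρ W hW ?_ ?_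
      · exact ih _ hs hP rfl _ g (anti (Nat.add_le_add_right (Nat.log_mono_right hs.le) 1) hg)
      · exact ih _ hq hP rfl _ g (anti (Nat.add_le_add_right (Nat.log_mono_right hq.le) 1) hg)
    by_cases hcom : ∀ a b, Commute (ρ a) (ρ b)
    · exact eq_one_of_mem_derivedSeries_one ρ hcom (anti (Nat.le_add_left 1 _) hg)
    -- the elements acting as scalars
    let N : Subgroup P :=
      { carrier := {z | ∀ h, Commute (ρ z) (ρ h)}
        one_mem' := fun h => by rw [map_one]; exact Commute.one_left _
        mul_mem' := fun {a b} ha hb h => by rw [map_mul]; exact (ha h).mul_left (hb h)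
        inv_mem' := fun {a} ha h => by
          show ρ a⁻¹ * ρ h = ρ h * ρ a⁻¹
          calc ρ a⁻¹ * ρ h = ρ a⁻¹ * (ρ h * ρ a) * ρ a⁻¹ := by
                rw [← map_mul, ← map_mul, ← map_mul, ← map_mul]; congr 1; group
            _ = ρ a⁻¹ * (ρ a * ρ h) * ρ a⁻¹ := by rw [(ha h).eq]
            _ = ρ h * ρ a⁻¹ := by rw [← map_mul, ← map_mul, ← map_mul, ← map_mul]; congr 1; group }
    haveI : N.Normal := ⟨fun a ha g h => by
      have e : ρ (g * a * g⁻¹) = ρ a := by
        rw [map_mul, map_mul, ← (ha g).eq, mul_assoc, ← map_mul ρ g, mul_inv_cancel, map_one,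
          mul_one]
      rw [e]; exact ha h⟩
    haveI : Nontrivial (P ⧸ N) := QuotientGroup.nontrivial_iff.mpr fun e =>
      hcom fun a => (show a ∈ N by rw [e]; exact Subgroup.mem_top a)
    haveI := (hP.to_quotient N).center_nontrivial
    obtain ⟨⟨c, hc⟩, hc1⟩ := exists_ne (1 : Subgroup.center (P ⧸ N))
    obtain ⟨z, rfl⟩ := QuotientGroup.mk_surjective c
    have hzN : z ∉ N := fun hz => hc1 (Subtype.ext ((QuotientGroup.eq_one_iff z).mpr hz))
    have hcomm : ∀ h, ⁅z, h⁆ ∈ N := fun h => by
      rw [← QuotientGroup.eq_one_iff]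
      show QuotientGroup.mk' N ⁅z, h⁆ = 1
      rw [map_commutatorElement, commutatorElement_eq_one_iff_mul_comm]
      exact (Subgroup.mem_center_iff.mp hc _).symm
    obtain ⟨μ, hμ⟩ := End.exists_eigenvalue (ρ z)
    set E := End.eigenspace (ρ z) μ with hEdef
    have hscal : ∀ h, ∃ c : F, ∀ v, ρ z (ρ h v) = c • ρ h (ρ z v) := fun h => by
      obtain ⟨c, hc⟩ := exists_scalar ρ hirr (hcomm h)
      refine ⟨c, fun v => ?_⟩
      rw [← hc, apply_apply, apply_apply, apply_apply, commutatorElement_def]
      congr 2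
      group
    choose sc hsc using hscal
    have hmove : ∀ h, ∀ v ∈ E, ρ z (ρ h v) = (sc h * μ) • ρ h v := fun h v hv => by
      rw [hsc, End.mem_eigenspace_iff.mp hv, map_smul, smul_smul]
    -- the stabiliser
    let H : Subgroup P :=
      { carrier := {h | ∀ v, ρ z (ρ h v) = ρ h (ρ z v)}
        one_mem' := fun v => by simp
        mul_mem' := fun {a b} ha hb v => by
          rw [← apply_apply, ← apply_apply, ha, hb]
        inv_mem' := fun {a} ha v => by
          have e := ha (ρ a⁻¹ v)
          rw [apply_inv_self] at e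
          rw [e, inv_apply_self] }
    have hHc : commutator P ≤ H := by
      rw [commutator_def, Subgroup.commutator_le]
      intro a _ b _ v
      obtain ⟨x, hx⟩ : ∃ x, ρ (b * a) x = v := ⟨ρ (b * a)⁻¹ v, apply_inv_self ρ (b * a) v⟩
      subst hx
      have hab : ∀ x, ρ z (ρ (a * b) x) = (sc a * sc b) • ρ (a * b) (ρ z x) := fun x => by
        rw [← apply_apply, ← apply_apply, hsc, hsc, map_smul, smul_smul]
      have hba : ∀ x, ρ z (ρ (b * a) x) = (sc a * sc b) • ρ (b * a) (ρ z x) := fun x => by
        rw [← apply_apply, ← apply_apply, hsc, hsc, map_smul, smul_smul, mul_comm (sc b)]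
      have hc' : ∀ x, ρ ⁅a, b⁆ (ρ (b * a) x) = ρ (a * b) x := fun x => by
        rw [apply_apply, commutatorElement_def]; congr 2; group
      rw [hc', hab, hba, map_smul, hc']
    have hEinv : ∀ h ∈ H, ∀ v ∈ E, ρ h v ∈ E := fun h hh v hv =>
      End.mem_eigenspace_iff.mpr (by rw [hh v, End.mem_eigenspace_iff.mp hv, map_smul])
    have hE0 : E ≠ ⊥ := hμ
    -- the sum of the translates of `E`
    have hWtop : (⨆ h : P, E.map (ρ h)) = ⊤ := by
      refine (hirr _ fun a v hv => ?_).resolve_left fun e => hE0 ?_
      · have hle : (⨆ h : P, E.map (ρ h)).map (ρ a) ≤ ⨆ h : P, E.map (ρ h) := by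
          rw [Submodule.map_iSup]
          refine iSup_le fun h => ?_
          refine le_trans ?_ (le_iSup (fun h : P => E.map (ρ h)) (a * h))
          rw [← Submodule.map_comp, map_mul]
          rfl
        exact hle (Submodule.mem_map_of_mem hv)
      · rw [eq_bot_iff, ← e]
        refine le_trans ?_ (le_iSup (fun h : P => E.map (ρ h)) 1)
        intro v hv
        exact ⟨v, hv, by simp⟩
    -- its dimension
    obtain ⟨g₀, hg₀⟩ : ∃ g₀, g₀ ∉ H := by
      by_contra hcon
      push Not at hcon
      exact hzN fun h => LinearMap.ext fun v => hcon h v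
    have hdim : 2 * finrank F E ≤ n := by
      have hinf : E ⊓ E.map (ρ g₀) = ⊥ := by
        rw [eq_bot_iff]
        rintro _ ⟨hx1, v, hv, rfl⟩
        rw [Submodule.mem_bot]
        by_contra hne
        have e1 := hmove g₀ v hv
        rw [End.mem_eigenspace_iff.mp hx1] at e1
        have e2 : μ = sc g₀ * μ := smul_left_injective F hne e1
        have hμ0 : μ ≠ 0 := fun e => by
          have e3 : v = 0 := by
            rw [← inv_apply_self ρ z v, End.mem_eigenspace_iff.mp hv, e, zero_smul, map_zero]
          exact hne (by rw [e3, map_zero])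
        have hsc1 : sc g₀ = 1 := mul_right_cancel₀ hμ0 (by rw [one_mul, ← e2])
        exact hg₀ fun w => by rw [hsc, hsc1, one_smul]
      have hinj : Function.Injective (ρ g₀) :=
        Function.LeftInverse.injective (g := ρ g₀⁻¹) (inv_apply_self ρ g₀)
      have h1 := Submodule.finrank_sup_add_finrank_inf_eq E (E.map (ρ g₀))
      rw [hinf, finrank_bot, add_zero,
        ← (Submodule.equivMapOfInjective (ρ g₀) hinj E).finrank_eq] at h1
      have h2 := Submodule.finrank_le (E ⊔ E.map (ρ g₀))
      omega
    have hE1 : 1 ≤ finrank F E := by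
      haveI := (Submodule.nontrivial_iff_ne_bot).mpr hE0
      exact Module.finrank_pos
    have hlog := log_succ_le hE1 hdim
    let ρH : H →* End F E :=
      { toFun := fun h => (ρ (h : P)).restrict (hEinv _ h.2)
        map_one' := by ext v; simp
        map_mul' := fun a b => by ext v; simp }
    have hfixE : ∀ x ∈ derivedSeries P (Nat.log 2 n + 1), ∀ v ∈ E, ρ x v = v := by
      intro x hx v hv
      have hx' := derivedSeries_succ_le hHc (Nat.log 2 (finrank F E) + 1)
        (anti (Nat.add_le_add_right hlog 1) hx)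
      obtain ⟨y, hy, rfl⟩ := hx'
      have e := ih (finrank F E) (by omega) (hP.to_subgroup H) rfl ρH y hy
      simpa [ρH] using congrArg Subtype.val (LinearMap.congr_fun e ⟨v, hv⟩)
    refine LinearMap.ext fun v => ?_
    have hle : (⨆ h : P, E.map (ρ h)) ≤ LinearMap.ker (ρ g - 1) := by
      refine iSup_le fun h => ?_
      rintro _ ⟨x, hx, rfl⟩
      rw [LinearMap.mem_ker, LinearMap.sub_apply, Module.End.one_apply, sub_eq_zero]
      have hn' := (inferInstance : (derivedSeries P (Nat.log 2 n + 1)).Normal).conj_mem' g hg h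
      have e := congrArg (ρ h) (hfixE _ hn' x hx)
      rw [apply_apply, show h * (h⁻¹ * g * h) = g * h by group, ← apply_apply] at e
      exact e
    rw [hWtop] at hle
    simpa [sub_eq_zero] using hle (Submodule.mem_top (x := v))

theorem bound_closed {P : Type u} [Group P] [Finite P] {p : ℕ} [Fact p.Prime] (hP : IsPGroup p P)
    {V : Type v} [AddCommGroup V] [Module F V] [FiniteDimensional F V] (ρ : P →* End F V)
    (g : P) (hg : g ∈ derivedSeries P (Nat.log 2 (finrank F V) + 1)) : ρ g = 1 := by
  by_cases hp : (p : F) = 0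
  · exact char_p_bound hP hp _ (Nat.lt_pow_succ_log_self one_lt_two _).le ρ g hg
  · exact coprime_bound hp _ hP rfl ρ g hg

end AlgClosed

/-- The derived length of a linear `p`-group of degree `n` is at most `log₂ n + 1`. -/
theorem bound {P : Type u} [Group P] [Finite P] {p : ℕ} [Fact p.Prime] (hP : IsPGroup p P)
    {V : Type v} [AddCommGroup V] [Module F V] [FiniteDimensional F V] (ρ : P →* End F V)
    (g : P) (hg : g ∈ derivedSeries P (Nat.log 2 (finrank F V) + 1)) : ρ g = 1 := by
  set n := finrank F V
  let e := algEquivMatrix (Module.finBasis F V)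
  let A := AlgebraicClosure F
  let f : Matrix (Fin n) (Fin n) F →+* Matrix (Fin n) (Fin n) A := (algebraMap F A).mapMatrix
  let t : Matrix (Fin n) (Fin n) A ≃ₐ[A] End A (Fin n → A) := Matrix.toLinAlgEquiv'
  let σ : P →* End A (Fin n → A) :=
    t.toAlgHom.toMonoidHom.comp (f.toMonoidHom.comp (e.toAlgHom.toMonoidHom.comp ρ))
  have h := bound_closed (F := A) hP σ g (by rwa [Module.finrank_fin_fun])
  apply e.injective
  rw [map_one]
  have hfinj : Function.Injective f := Matrix.map_injective (algebraMap F A).injective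
  apply hfinj
  rw [map_one]
  apply t.injective
  rw [map_one]
  exact h

/-- Over a field of `q` elements `n` may be replaced by `n / e`. -/
theorem bound_finite [Finite F] {p : ℕ} [Fact p.Prime] (hp : (p : F) ≠ 0) {P : Type u} [Group P]
    [Finite P] (hP : IsPGroup p P) :
    ∀ (n : ℕ) {V : Type v} [AddCommGroup V] [Module F V] [FiniteDimensional F V],
      finrank F V = n → ∀ ρ : P →* End F V,
      ∀ g ∈ derivedSeries P (Nat.log 2 (n / orderOf (Nat.card F : ZMod p)) + 1), ρ g = 1 := by
  intro n
  induction n using Nat.strong_induction_on with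
  | _ n ih =>
    intro V _ _ _ hn ρ g hg
    have anti : ∀ {a b : ℕ}, a ≤ b → derivedSeries P b ≤ derivedSeries P a := fun {a b} h =>
      derivedSeries_antitone P h
    by_cases hcom : ∀ a b, Commute (ρ a) (ρ b)
    · exact eq_one_of_mem_derivedSeries_one ρ hcom (anti (Nat.le_add_left 1 _) hg)
    by_cases hirr : ∀ W, Inv ρ W → W = ⊥ ∨ W = ⊤
    swap
    · push Not at hirr
      obtain ⟨W, hW, hW0, hW1⟩ := hirr
      have hs : finrank F W < n := hn ▸ Submodule.finrank_lt hW1
      have hs0 : 0 < finrank F W := by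
        haveI := (Submodule.nontrivial_iff_ne_bot).mpr hW0
        exact Module.finrank_pos
      have hq : finrank F (V ⧸ W) < n := by have := finrank_quot W; omega
      refine eq_one_of_sub_quot hp hP ρ W hW ?_ ?_
      · exact ih _ hs rfl _ g
          (anti (Nat.add_le_add_right (Nat.log_mono_right (Nat.div_le_div_right hs.le)) 1) hg)
      · exact ih _ hq rfl _ g
          (anti (Nat.add_le_add_right (Nat.log_mono_right (Nat.div_le_div_right hq.le)) 1) hg)
    haveI : Nontrivial V := by
      by_contra hV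
      rw [not_nontrivial_iff_subsingleton] at hV
      exact hcom fun a b => LinearMap.ext fun v => Subsingleton.elim _ _
    haveI : Nontrivial (P ⧸ ρ.ker) := QuotientGroup.nontrivial_iff.mpr fun e => hcom fun a b => by
      rw [MonoidHom.mem_ker.mp (show a ∈ ρ.ker by rw [e]; exact Subgroup.mem_top a)]
      exact Commute.one_left _
    haveI := (hP.to_quotient ρ.ker).center_nontrivial
    obtain ⟨k, hk⟩ := IsPGroup.iff_card.mp
      ((hP.to_quotient ρ.ker).to_subgroup (Subgroup.center (P ⧸ ρ.ker)))
    have hk0 : k ≠ 0 := fun e => by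
      have h1 := Finite.one_lt_card (α := Subgroup.center (P ⧸ ρ.ker))
      rw [hk, e, pow_zero] at h1
      omega
    obtain ⟨⟨c, hc⟩, hco⟩ := exists_prime_orderOf_dvd_card' (G := Subgroup.center (P ⧸ ρ.ker)) p
      (by rw [hk]; exact dvd_pow_self p hk0)
    rw [Subgroup.orderOf_mk] at hco
    obtain ⟨z, rfl⟩ := QuotientGroup.mk_surjective c
    set T := ρ z with hTdef
    have hTp : T ^ p = 1 := by
      have e := pow_orderOf_eq_one (z : P ⧸ ρ.ker)
      rw [hco, ← QuotientGroup.mk_pow, QuotientGroup.eq_one_iff, MonoidHom.mem_ker, map_pow] at e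
      exact e
    have hT1 : T ≠ 1 := fun e => by
      rw [(QuotientGroup.eq_one_iff z).mpr (MonoidHom.mem_ker.mpr e), orderOf_one] at hco
      exact (Fact.out : p.Prime).ne_one hco.symm
    have hTc : ∀ h, T * ρ h = ρ h * T := fun h => by
      have e := Subgroup.mem_center_iff.mp hc (QuotientGroup.mk h)
      rw [← QuotientGroup.mk_mul, ← QuotientGroup.mk_mul, QuotientGroup.eq, MonoidHom.mem_ker] at e
      rw [hTdef, ← map_mul, ← map_mul, show z * h = h * z * ((h * z)⁻¹ * (z * h)) by group,
        map_mul, e, mul_one]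
    let K : Subalgebra F (End F V) := Algebra.adjoin F {T}
    have hTK : T ∈ K := Algebra.self_mem_adjoin_singleton F T
    have hKc : K ≤ Subalgebra.centralizer F (Set.range ρ) := Algebra.adjoin_le (by
      intro x hx y hy
      obtain ⟨h, rfl⟩ := hy
      rw [Set.mem_singleton_iff] at hx
      rw [hx]
      exact (hTc h).symm)
    have hKK : K ≤ Subalgebra.centralizer F (K : Set (End F V)) := by
      refine Algebra.adjoin_le ?_
      have hKT : K ≤ Subalgebra.centralizer F {T} := Algebra.adjoin_le (by
        intro x hx y hy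
        rw [Set.mem_singleton_iff] at hx hy
        rw [hx, hy])
      intro x hx
      rw [Set.mem_singleton_iff] at hx
      subst hx
      exact fun y hy => (hKT hy T rfl).symm
    haveI : Finite V := Module.finite_of_finite F
    haveI : Finite (End F V) := Finite.of_injective _ DFunLike.coe_injective
    haveI : Nontrivial K := ⟨⟨⟨T, hTK⟩, 1, fun e => hT1 (congrArg Subtype.val e)⟩⟩
    have hfield : IsField K := by
      refine ⟨exists_pair_ne K, fun a b => Subtype.ext (hKK b.2 a a.2), fun {a} ha => ?_⟩
      have hinj : Function.Injective fun b : K => a * b := by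
        intro b b' hbb
        have hker : LinearMap.ker (a : End F V) = ⊥ := by
          refine (hirr _ fun h v hv => ?_).resolve_right fun e => ha (Subtype.ext (LinearMap.ext
            fun v => LinearMap.mem_ker.mp (e ▸ Submodule.mem_top)))
          rw [LinearMap.mem_ker] at hv ⊢
          rw [← Module.End.mul_apply, ← (hKc a.2) (ρ h) ⟨h, rfl⟩, Module.End.mul_apply, hv,
            map_zero]
        refine Subtype.ext (LinearMap.ext fun v => LinearMap.ker_eq_bot.mp hker ?_)
        exact LinearMap.congr_fun (congrArg Subtype.val hbb) v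
      obtain ⟨b, hb⟩ := (Finite.injective_iff_surjective.mp hinj) 1
      exact ⟨b, hb⟩
    letI : Field K := hfield.toField
    haveI : IsScalarTower F K V := ⟨fun _ _ _ => rfl⟩
    haveI : Module.Finite K V := Module.Finite.of_finite
    let ρK : P →* End K V :=
      { toFun := fun h =>
          { toFun := ρ h
            map_add' := map_add (ρ h)
            map_smul' := fun a v => (LinearMap.congr_fun (hKc a.2 (ρ h) ⟨h, rfl⟩) v) }
        map_one' := LinearMap.ext fun v => LinearMap.congr_fun (map_one ρ) v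
        map_mul' := fun a b => LinearMap.ext fun v => LinearMap.congr_fun (map_mul ρ a b) v }
    set d := finrank F K with hd
    have hcard : Nat.card K = Nat.card F ^ d := Module.natCard_eq_pow_finrank (K := F) (V := K)
    have hed : orderOf (Nat.card F : ZMod p) ∣ d := by
      apply orderOf_dvd_of_pow_eq_one
      have h0 : (⟨T, hTK⟩ : K) ≠ 0 := fun e => by
        have e' : T = 0 := congrArg Subtype.val e
        rw [e', zero_pow (Fact.out : p.Prime).ne_zero] at hTp
        exact zero_ne_one hTp
      have ho : orderOf (Units.mk0 (⟨T, hTK⟩ : K) h0) = p := by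
        refine orderOf_eq_prime ?_ fun e => hT1 (congrArg (fun u : Kˣ => ((u : K) : End F V)) e)
        exact Units.ext (Subtype.ext (by simpa using hTp))
      have h1 : p ∣ Nat.card F ^ d - 1 := by
        rw [← hcard, ← Nat.card_units]
        exact (ho ▸ orderOf_dvd_natCard _ :)
      rw [← ZMod.natCast_eq_zero_iff, Nat.cast_sub (Nat.one_le_pow _ _ Nat.card_pos), sub_eq_zero]
        at h1
      simpa using h1
    have hd0 : 0 < d := Module.finrank_pos
    have hdim : finrank K V ≤ n / orderOf (Nat.card F : ZMod p) := by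
      have he0 : 0 < orderOf (Nat.card F : ZMod p) := Nat.pos_of_dvd_of_pos hed hd0
      rw [Nat.le_div_iff_mul_le he0, ← hn, ← Module.finrank_mul_finrank F K V, ← hd, mul_comm d]
      exact Nat.mul_le_mul_left _ (Nat.le_of_dvd hd0 hed)
    have e := bound (F := K) hP ρK g
      (anti (Nat.add_le_add_right (Nat.log_mono_right hdim) 1) hg)
    exact LinearMap.ext fun v => LinearMap.congr_fun e v

end Cfsg.Agent.PLinearDL
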